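import Groth.Agent.Lib.Props8.Catenary

/-!
# Dimension functions exist locally on catenary noetherian spaces
-/

set_option autoImplicit false

universe u

open TopologicalSpace GrothLib.Catenary20

namespace GrothLib.Props8

variable {X : Type u} [TopologicalSpace X]

/-- The closure of a point. -/
def cl (x : X) : IrreducibleCloseds X := ⟨closure {x}, isIrreducible_singleton.closure, isClosed_closure⟩

theorem cl_le {x : X} {Z : IrreducibleCloseds X} : cl x ≤ Z ↔ x ∈ (Z : Set X) :=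
  ⟨fun h => h (subset_closure rfl), fun h => Z.isClosed.closure_subset_iff.2 (Set.singleton_subset_iff.2 h)⟩

theorem cl_mono {x y : X} (h : x ⤳ y) : cl y ≤ cl x := cl_le.2 (specializes_iff_mem_closure.1 h)

theorem exists_dimensionFunction_nhd [NoetherianSpace X] [QuasiSober X] [T0Space X]
    (hcat : PtTop.IsCatenarySpace X) (s : X) :
    ∃ U : Opens X, s ∈ U ∧ ∃ δ : U → ℤ, PtTop.IsDimensionFunction δ := by
  classical
  have hC : Cat (IrreducibleCloseds X) := hcat
  obtain ⟨F, hFf, hFc, hFi, hF⟩ := NoetherianSpace.exists_finite_set_isClosed_irreducible (isClosed_univ (X := X))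
  haveI : Finite F := hFf.to_subtype
  choose G hGf hGc hGi hG using fun p : F × F =>
    NoetherianSpace.exists_finite_set_isClosed_irreducible ((hFc p.1 p.1.2).inter (hFc p.2 p.2.2))
  let B : Set X := ⋃₀ ({T | T ∈ F ∧ s ∉ T} ∪ ⋃ p, {T | T ∈ G p ∧ s ∉ T})
  have hB : IsClosed B := by
    have hfin : ({T | T ∈ F ∧ s ∉ T} ∪ ⋃ p, {T | T ∈ G p ∧ s ∉ T}).Finite :=
      (hFf.subset fun _ h => And.left h).union (Set.finite_iUnion fun p => (hGf p).subset fun _ h => And.left h)
    show IsClosed (⋃₀ _)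
    rw [Set.sUnion_eq_biUnion]
    refine hfin.isClosed_biUnion ?_
    rintro T (h | h)
    · exact hFc T h.1
    · obtain ⟨p, hp⟩ := Set.mem_iUnion.1 h
      exact hGc p T hp.1
  have hsB : s ∉ B := by
    rintro ⟨T, h | h, hsT⟩
    · exact h.2 hsT
    · obtain ⟨p, hp⟩ := Set.mem_iUnion.1 h
      exact hp.2 hsT
  refine ⟨⟨Bᶜ, hB.isOpen_compl⟩, hsB, ?_⟩
  let U : Opens X := ⟨Bᶜ, hB.isOpen_compl⟩
  have memF : ∀ (x : U) (T : Set X), T ∈ F → x.1 ∈ T → s ∈ T := fun x T hT hx => by
    by_contra h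
    exact x.2 ⟨T, Or.inl ⟨hT, h⟩, hx⟩
  let comp : F → IrreducibleCloseds X := fun T => ⟨T.1, hFi T.1 T.2, hFc T.1 T.2⟩
  have hex : ∀ x : U, ∃ T : F, x.1 ∈ T.1 := fun x => by
    obtain ⟨T, hT, hx⟩ := hF.subset (Set.mem_univ x.1)
    exact ⟨⟨T, hT⟩, hx⟩
  choose Tx hTx using hex
  have add : ∀ a b c : IrreducibleCloseds X, a ≤ b → b ≤ c → (C a c).toNat = (C a b).toNat + (C b c).toNat :=
    fun a b c hab hbc => by rw [hC.add hab hbc, ENat.toNat_add (hC a b hab).1 (hC b c hbc).1]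
  let val : F → X → ℤ := fun T x => ((C (cl s) (comp T)).toNat : ℤ) - (C (cl x) (comp T)).toNat
  have hind : ∀ (x : U) (T T' : F), x.1 ∈ T.1 → x.1 ∈ T'.1 → val T x.1 = val T' x.1 := by
    intro x T T' h h'
    obtain ⟨W, hW, hxW⟩ := (hG (T, T')).subset ⟨h, h'⟩
    have hsW : s ∈ W := by
      by_contra hs
      exact x.2 ⟨W, Or.inr (Set.mem_iUnion.2 ⟨(T, T'), hW, hs⟩), hxW⟩
    let W' : IrreducibleCloseds X := ⟨W, hGi _ W hW, hGc _ W hW⟩
    have hWsub : W ⊆ T.1 ∩ T'.1 := (hG (T, T')) ▸ Set.subset_sUnion_of_mem hW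
    have e1 := add (cl s) W' (comp T) (cl_le.2 hsW) (fun z hz => (hWsub hz).1)
    have e2 := add (cl x.1) W' (comp T) (cl_le.2 hxW) (fun z hz => (hWsub hz).1)
    have e3 := add (cl s) W' (comp T') (cl_le.2 hsW) (fun z hz => (hWsub hz).2)
    have e4 := add (cl x.1) W' (comp T') (cl_le.2 hxW) (fun z hz => (hWsub hz).2)
    simp only [val, e1, e2, e3, e4]
    push_cast
    ring
  let δ : U → ℤ := fun x => val (Tx x) x.1
  have hdiff : ∀ x y : U, x.1 ⤳ y.1 → δ x = δ y + (C (cl y.1) (cl x.1)).toNat := by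
    intro x y hxy
    have hy : y.1 ∈ (Tx x).1 := hxy.mem_closed (hFc _ (Tx x).2) (hTx x)
    show val (Tx x) x.1 = val (Tx y) y.1 + _
    rw [hind y (Tx y) (Tx x) (hTx y) hy]
    have e := add (cl y.1) (cl x.1) (comp (Tx x)) (cl_mono hxy) (cl_le.2 (hTx x))
    simp only [val, e]
    push_cast
    ring
  refine ⟨δ, fun x y hxy hne => ?_, fun x y ⟨hxy, hne, himm⟩ => ?_⟩
  · have h := hdiff x y (subtype_specializes_iff x y |>.1 hxy)
    have hlt : cl y.1 < cl x.1 := by
      refine lt_of_le_of_ne (cl_mono (subtype_specializes_iff x y |>.1 hxy)) fun e => hne (Subtype.ext ?_)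
      have e' : closure ({y.1} : Set X) = closure {x.1} := congrArg (fun Z : IrreducibleCloseds X => (Z : Set X)) e
      exact (inseparable_iff_closure_eq.2 e'.symm).eq
    have h1 : 1 ≤ C (cl y.1) (cl x.1) := by
      exact_mod_cast le_C ((RelSeries.singleton _ (cl y.1)).snoc (cl x.1) hlt) (by simp) (by simp)
    have h2 : 1 ≤ (C (cl y.1) (cl x.1)).toNat := by
      have h3 := ENat.toNat_le_toNat h1 (hC _ _ hlt.le).1
      simpa using h3
    omega
  · have hxy' := subtype_specializes_iff x y |>.1 hxy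
    have hcov : cl y.1 ⋖ cl x.1 := by
      refine ⟨lt_of_le_of_ne (cl_mono hxy') fun e => hne (Subtype.ext ?_), fun Z h1 h2 => ?_⟩
      · have e' : closure ({y.1} : Set X) = closure {x.1} := congrArg (fun Z : IrreducibleCloseds X => (Z : Set X)) e
        exact (inseparable_iff_closure_eq.2 e'.symm).eq
      · obtain ⟨z, hz⟩ := QuasiSober.sober Z.isIrreducible Z.isClosed
        have hxz : x.1 ⤳ z := specializes_iff_mem_closure.2 (h2.le hz.mem)
        have hzy : z ⤳ y.1 := hz.specializes (cl_le.1 h1.le)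
        have hzU : z ∈ U := hzy.mem_open U.2 y.2
        rcases himm ⟨z, hzU⟩ (subtype_specializes_iff _ _ |>.2 hxz) (subtype_specializes_iff _ _ |>.2 hzy) with h | h
        · exact h2.ne (IrreducibleCloseds.ext (by rw [← hz.def]; exact congrArg (fun w : U => closure {w.1}) h))
        · exact h1.ne (IrreducibleCloseds.ext (by rw [← hz.def]; exact congrArg (fun w : U => closure {w.1}) h.symm))
    rw [hdiff x y hxy', C_covBy hcov]
    simp

end GrothLib.Props8

namespace GrothLib.Props8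

open AlgebraicGeometry CategoryTheory

theorem isDimensionFunction_comp {A B : Type u} [TopologicalSpace A] [TopologicalSpace B] (e : A ≃ₜ B) {δ : B → ℤ}
    (hδ : PtTop.IsDimensionFunction δ) : PtTop.IsDimensionFunction (δ ∘ e) := by
  refine ⟨fun x y hxy hne => hδ.1 _ _ (hxy.map e.continuous) (e.injective.ne hne), fun x y ⟨hxy, hne, himm⟩ => ?_⟩
  refine hδ.2 _ _ ⟨hxy.map e.continuous, e.injective.ne hne, fun z h1 h2 => ?_⟩
  have h1' : x ⤳ e.symm z := by simpa using h1.map e.symm.continuous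
  have h2' : e.symm z ⤳ y := by simpa using h2.map e.symm.continuous
  rcases himm _ h1' h2' with h | h
  · exact Or.inl (by rw [← h, Homeomorph.apply_symm_apply])
  · exact Or.inr (by rw [← h, Homeomorph.apply_symm_apply])

theorem exists_dimensionFunction_scheme (S : Scheme.{u}) [IsLocallyNoetherian S] (h : PtTop.IsCatenarySpace S) (s : S) :
    ∃ U : S.Opens, s ∈ U ∧ ∃ δ : U → ℤ, PtTop.IsDimensionFunction δ := by
  obtain ⟨V, hV, hs, -⟩ := exists_isAffineOpen_mem_and_subset (Opens.mem_top s)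
  haveI : IsNoetherianRing Γ(S, V) := IsLocallyNoetherian.component_noetherian ⟨V, hV⟩
  have hN : NoetherianSpace V.toScheme :=
    (noetherianSpace_iff_of_homeomorph (Scheme.homeoOfIso hV.isoSpec)).mpr inferInstance
  have hQ : QuasiSober V.toScheme := inferInstance
  have hT : T0Space V.toScheme := inferInstance
  have hVcat : PtTop.IsCatenarySpace (V : Set S) := (Groth.Agent.S12444.result S).2 h _ V.2.isLocallyClosed
  obtain ⟨U, hsU, δ, hδ⟩ := @exists_dimensionFunction_nhd V.toScheme _ hN hQ hT hVcat ⟨s, hs⟩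
  let e : (U : Set V.toScheme) ≃ₜ (V.ι '' (U : Set V.toScheme)) := V.ι.isOpenEmbedding.isEmbedding.homeomorphImage _
  exact ⟨V.ι ''ᵁ U, ⟨⟨s, hs⟩, hsU, rfl⟩, δ ∘ e.symm, isDimensionFunction_comp e.symm hδ⟩

end GrothLib.Props8
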