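import Groth.Agent.Lib.CMModule.Chains
import Groth.Agent.Lib.HB26.Spread
import Groth.Agent.Lib.BlowUp17.Generization

/-!
# Cohen–Macaulay local rings localize; generization of stalks
-/

set_option autoImplicit false

universe u

open CategoryTheory AlgebraicGeometry TopologicalSpace

namespace GrothLib.Props8

theorem isCohenMacaulayLocalRing_localization (R : Type u) [CommRing R] [LocCoh.IsCohenMacaulayLocalRing R]
    (q : Ideal R) [q.IsPrime] : LocCoh.IsCohenMacaulayLocalRing (Localization.AtPrime q) := by
  have hM : LocCoh.IsCohenMacaulayModule R R := LocCoh.IsCohenMacaulayLocalRing.supportDim_eq_depth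
  have hsupp : Module.support R R = Set.univ :=
    Module.support_eq_zeroLocus.trans (by rw [Module.annihilator_eq_bot.mpr inferInstance]; simp)
  obtain ⟨-, h1, h2⟩ := GrothLib.CMModule.localization_isCM_and_formula (M := R) hM hsupp q
  haveI : IsNoetherianRing (Localization.AtPrime q) := IsLocalization.isNoetherianRing q.primeCompl _ inferInstance
  refine ⟨?_⟩
  have h3 : Module.supportDim (Localization.AtPrime q) (LocalizedModule q.primeCompl R) =
      Module.supportDim (Localization.AtPrime q) (Localization.AtPrime q) := by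
    rw [Module.supportDim_self_eq_ringKrullDim]
  rw [← h3, ← GrothLib.Depth.depth_localization_self]
  exact h1

theorem isCohenMacaulayLocalRing_of_specializes {X : Scheme.{u}} {x y : X} (h : x ⤳ y)
    [LocCoh.IsCohenMacaulayLocalRing (X.presheaf.stalk y)] : LocCoh.IsCohenMacaulayLocalRing (X.presheaf.stalk x) := by
  obtain ⟨_, ⟨V, hV, rfl⟩, hyV, -⟩ :=
    X.isBasis_affineOpens.exists_subset_of_mem_open (Set.mem_univ y) isOpen_univ
  have hxV : x ∈ V := h.mem_open V.2 hyV
  let p := (hV.primeIdealOf ⟨x, hxV⟩).asIdeal
  let q := (hV.primeIdealOf ⟨y, hyV⟩).asIdeal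
  letI := X.presheaf.algebra_section_stalk ⟨y, hyV⟩
  letI := X.presheaf.algebra_section_stalk ⟨x, hxV⟩
  haveI := hV.isLocalization_stalk ⟨y, hyV⟩
  haveI := hV.isLocalization_stalk ⟨x, hxV⟩
  haveI hq : LocCoh.IsCohenMacaulayLocalRing (Localization.AtPrime q) :=
    GrothLib.HB26.isCohenMacaulayLocalRing_of_ringEquiv
      (IsLocalization.algEquiv q.primeCompl (X.presheaf.stalk y) (Localization.AtPrime q)).toRingEquiv
  have hpq : p ≤ q := by
    have h' : hV.primeIdealOf ⟨x, hxV⟩ ⤳ hV.primeIdealOf ⟨y, hyV⟩ := by
      refine (hV.fromSpec.isOpenEmbedding.toIsInducing.specializes_iff).1 ?_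
      rwa [hV.fromSpec_primeIdealOf, hV.fromSpec_primeIdealOf]
    exact (PrimeSpectrum.le_iff_specializes _ _).2 h'
  let p' : Ideal (Localization.AtPrime q) := p.map (algebraMap Γ(X, V) _)
  have hd : Disjoint (q.primeCompl : Set Γ(X, V)) (p : Set Γ(X, V)) :=
    Set.disjoint_left.2 fun a ha hap => ha (hpq hap)
  haveI : p'.IsPrime := IsLocalization.isPrime_of_isPrime_disjoint q.primeCompl _ p inferInstance hd
  have hcomap : p'.comap (algebraMap Γ(X, V) (Localization.AtPrime q)) = p :=
    IsLocalization.comap_map_of_isPrime_disjoint q.primeCompl _ inferInstance hd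
  haveI := isCohenMacaulayLocalRing_localization (Localization.AtPrime q) p'
  have : IsLocalization.AtPrime (Localization.AtPrime p')
      (p'.comap (algebraMap Γ(X, V) (Localization.AtPrime q))) :=
    IsLocalization.isLocalization_isLocalization_atPrime_isLocalization q.primeCompl _ p'
  simp only [hcomap] at this
  exact GrothLib.HB26.isCohenMacaulayLocalRing_of_ringEquiv (R := Localization.AtPrime p')
    (IsLocalization.algEquiv p.primeCompl (Localization.AtPrime p') (X.presheaf.stalk x)).toRingEquiv

end GrothLib.Props8
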