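import Groth.Agent.Lib.Catenary20.Basic
import Groth.Agent.Lib.CatBasics.Basic
import Groth.Agent.S12444
import Mathlib

/-!
# Catenary schemes
-/

set_option autoImplicit false

universe u v

open TopologicalSpace AlgebraicGeometry CategoryTheory GrothLib.Catenary20

namespace GrothLib.Props8

section order

variable {P : Type u} [PartialOrder P] {Q : Type v} [PartialOrder Q]

/-- Bounded chains, saturated ones of equal lengths. -/
def ChainsEq (P : Type u) [PartialOrder P] : Prop :=
  (∀ a b : P, a ≤ b → ∃ n : ℕ, ∀ s : LTSeries P, s.head = a → s.last = b → s.length ≤ n) ∧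
  ∀ s t : LTSeries P, s.head = t.head → s.last = t.last → Sat s → Sat t → s.length = t.length

theorem cat_iff_chainsEq : Cat P ↔ ChainsEq P := by
  constructor
  · intro h
    refine ⟨fun a b hab => ?_, fun s t hh hl hs ht => ?_⟩
    · obtain ⟨n, hn⟩ := ENat.ne_top_iff_exists.1 (h a b hab).1
      refine ⟨n, fun s s1 s2 => ?_⟩
      have := le_C s s1 s2.le
      rw [← hn] at this
      exact_mod_cast this
    · have hle : s.head ≤ s.last := s.monotone (Fin.zero_le _)
      have h1 := (h _ _ hle).2 s rfl rfl hs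
      have h2 := (h _ _ hle).2 t hh.symm hl.symm ht
      exact_mod_cast h1.trans h2.symm
  · rintro ⟨h1, h2⟩ a b hab
    obtain ⟨n, hn⟩ := h1 a b hab
    have hle : C a b ≤ (n : ℕ∞) := C_le fun s s1 s2 => by
      rcases s2.lt_or_eq with h | h
      · have := hn (s.snoc b h) (by simpa using s1) (by simp)
        simp at this
        exact_mod_cast (by omega : s.length ≤ n)
      · exact_mod_cast hn s s1 h
    have hne : C a b ≠ ⊤ := ne_top_of_le_ne_top (ENat.natCast_ne_top n) hle
    refine ⟨hne, fun s s1 s2 s3 => ?_⟩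
    obtain ⟨t, t1, t2, t3, t4⟩ := exists_sat hab hne
    rw [← t4, h2 s t (s1.trans t1.symm) (s2.trans t2.symm) s3 t3]

theorem ChainsEq.of_antiIso (e : P ≃o Qᵒᵈ) (h : ChainsEq P) : ChainsEq Q := by
  let rev : LTSeries Q → LTSeries P := fun s =>
    LTSeries.mk s.length (fun i => e.symm (OrderDual.toDual (s i.rev))) fun i j hij =>
      e.symm.strictMono (OrderDual.toDual_lt_toDual.2 (s.strictMono (Fin.rev_lt_rev.2 hij)))
  have hhead : ∀ s, (rev s).head = e.symm (OrderDual.toDual s.last) := fun s => by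
    show e.symm (OrderDual.toDual (s (Fin.rev 0))) = _
    rw [Fin.rev_zero]; rfl
  have hlast : ∀ s, (rev s).last = e.symm (OrderDual.toDual s.head) := fun s => by
    show e.symm (OrderDual.toDual (s (Fin.rev (Fin.last _)))) = _
    rw [Fin.rev_last]; rfl
  have hsat : ∀ s, Sat s → Sat (rev s) := fun s hs i => by
    show e.symm (OrderDual.toDual (s i.castSucc.rev)) ⋖ e.symm (OrderDual.toDual (s i.succ.rev))
    rw [apply_covBy_apply_iff, toDual_covBy_toDual_iff, Fin.rev_castSucc, Fin.rev_succ]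
    exact hs i.rev
  refine ⟨fun a b hab => ?_, fun s t hh hl hs ht => ?_⟩
  · obtain ⟨n, hn⟩ := h.1 (e.symm (OrderDual.toDual b)) (e.symm (OrderDual.toDual a))
      (e.symm.monotone (OrderDual.toDual_le_toDual.2 hab))
    exact ⟨n, fun s s1 s2 => hn (rev s) (by rw [hhead, s2]) (by rw [hlast, s1])⟩
  · exact h.2 (rev s) (rev t) (by rw [hhead, hhead, hl]) (by rw [hlast, hlast, hh]) (hsat s hs) (hsat t ht)

theorem chainsEq_antiIso (e : P ≃o Qᵒᵈ) : ChainsEq P ↔ ChainsEq Q :=
  ⟨ChainsEq.of_antiIso e, ChainsEq.of_antiIso ((OrderIso.dualDual Q).trans e.symm.dual)⟩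

end order

/-- Irreducible closed sets along a homeomorphism. -/
noncomputable def irreducibleClosedsIso {A B : Type*} [TopologicalSpace A] [TopologicalSpace B] (e : A ≃ₜ B) :
    IrreducibleCloseds A ≃o IrreducibleCloseds B where
  toFun := IrreducibleCloseds.map e e.continuous
  invFun := IrreducibleCloseds.map e.symm e.symm.continuous
  left_inv c := by
    apply SetLike.coe_injective
    simp only [IrreducibleCloseds.coe_map, e.image_closure, e.symm.image_closure, closure_closure]
    rw [← Set.image_comp, e.symm_comp_self, Set.image_id, c.isClosed.closure_eq]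
  right_inv c := by
    apply SetLike.coe_injective
    simp only [IrreducibleCloseds.coe_map, e.image_closure, e.symm.image_closure, closure_closure]
    rw [← Set.image_comp, e.self_comp_symm, Set.image_id, c.isClosed.closure_eq]
  map_rel_iff' {a b} := by
    show closure (e '' (a : Set A)) ⊆ closure (e '' (b : Set A)) ↔ a ≤ b
    rw [← e.image_closure, ← e.image_closure, a.isClosed.closure_eq, b.isClosed.closure_eq,
      Set.image_subset_image_iff e.injective]
    rfl

theorem isCatenarySpace_affine {X : Scheme.{u}} {U : X.Opens} (hU : IsAffineOpen U) :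
    PtTop.IsCatenarySpace (U : Set X) ↔ CAlg.IsCatenary Γ(X, U) :=
  cat_iff_chainsEq.trans (chainsEq_antiIso
    ((PrimeSpectrum.pointsEquivIrreducibleCloseds Γ(X, U)).trans
      (irreducibleClosedsIso (Scheme.homeoOfIso hU.isoSpec).symm).dual)).symm

theorem isCatenarySpace_iff_affine (S : Scheme.{u}) :
    (PtTop.IsCatenarySpace S ↔ ∀ U : S.affineOpens, CAlg.IsCatenary Γ(S, U)) ∧
    (PtTop.IsCatenarySpace S ↔
      ∀ s : S, ∃ U : S.affineOpens, s ∈ (U : S.Opens) ∧ CAlg.IsCatenary Γ(S, U)) := by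
  have h := Groth.Agent.S12444.result S
  have fwd : PtTop.IsCatenarySpace S → ∀ U : S.affineOpens, CAlg.IsCatenary Γ(S, U) := fun hS U =>
    (isCatenarySpace_affine U.2).mp (h.2 hS _ U.1.2.isLocallyClosed)
  have bwd : (∀ s : S, ∃ U : S.affineOpens, s ∈ (U : S.Opens) ∧ CAlg.IsCatenary Γ(S, U)) →
      PtTop.IsCatenarySpace S := fun hU => h.1.mpr fun s => by
    obtain ⟨U, hs, hcat⟩ := hU s
    exact ⟨U.1, hs, (isCatenarySpace_affine U.2).mpr hcat⟩
  have ex : (∀ U : S.affineOpens, CAlg.IsCatenary Γ(S, U)) →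
      ∀ s : S, ∃ U : S.affineOpens, s ∈ (U : S.Opens) ∧ CAlg.IsCatenary Γ(S, U) := fun hU s => by
    obtain ⟨V, hV, hs, -⟩ := exists_isAffineOpen_mem_and_subset (Opens.mem_top s)
    exact ⟨⟨V, hV⟩, hs, hU _⟩
  exact ⟨⟨fwd, fun hU => bwd (ex hU)⟩, ⟨fun hS => ex (fwd hS), bwd⟩⟩

theorem isCatenarySpace_iff_stalks (X : Scheme.{u}) :
    PtTop.IsCatenarySpace X ↔ ∀ x : X, CAlg.IsCatenary (X.presheaf.stalk x) := by
  have key : ∀ (U : X.Opens) (hU : IsAffineOpen U) (x : U),
      CAlg.IsCatenary (Localization.AtPrime (hU.primeIdealOf x).asIdeal) ↔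
        CAlg.IsCatenary (X.presheaf.stalk x.1) := fun U hU x => by
    letI := X.presheaf.algebra_section_stalk x
    haveI := hU.isLocalization_stalk x
    let e := (IsLocalization.algEquiv (hU.primeIdealOf x).asIdeal.primeCompl
      (Localization.AtPrime (hU.primeIdealOf x).asIdeal) (X.presheaf.stalk x.1)).toRingEquiv
    exact ⟨GrothLib.CatBasics.isCatenary_of_surjective e.toRingHom e.surjective,
      GrothLib.CatBasics.isCatenary_of_surjective e.symm.toRingHom e.symm.surjective⟩
  rw [(isCatenarySpace_iff_affine X).1]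
  constructor
  · intro h x
    obtain ⟨V, hV, hx, -⟩ := exists_isAffineOpen_mem_and_subset (Opens.mem_top x)
    exact (key V hV ⟨x, hx⟩).mp
      (GrothLib.Excellent.isCatenary_localization (hV.primeIdealOf ⟨x, hx⟩).asIdeal.primeCompl (h ⟨V, hV⟩))
  · rintro h ⟨V, hV⟩
    refine GrothLib.CatBasics.isCatenary_iff_localization_maximal.mpr fun m hm => ?_
    obtain ⟨x, hx⟩ : ∃ x : V, hV.primeIdealOf x = ⟨m, hm.isPrime⟩ :=
      ⟨(Scheme.homeoOfIso hV.isoSpec).symm ⟨m, hm.isPrime⟩,
        (Scheme.homeoOfIso hV.isoSpec).apply_symm_apply _⟩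
    have key2 : ∀ (P : PrimeSpectrum Γ(X, V)), P = ⟨m, hm.isPrime⟩ →
        CAlg.IsCatenary (Localization.AtPrime P.asIdeal) → CAlg.IsCatenary (Localization.AtPrime m) := by
      rintro P rfl h'; exact h'
    exact key2 _ hx ((key V hV x).mpr (h x.1))

end GrothLib.Props8
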