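import Groth.Agent.Lib.WLocal.DimZero
import Mathlib.AlgebraicGeometry.ValuativeCriterion
import Mathlib.Topology.KrullDimension

/-!
# Schemes of dimension zero
-/

set_option autoImplicit false
set_option backward.isDefEq.respectTransparency false

universe u

open CategoryTheory CategoryTheory.Limits AlgebraicGeometry TopologicalSpace Opposite

namespace GrothLib.Props8

variable {X : Scheme.{u}}

/-- In a scheme of dimension zero every point is closed. -/
theorem isClosed_singleton_of_dim_le_zero (h : topologicalKrullDim X ≤ 0) (x : X) :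
    IsClosed ({x} : Set X) := by
  refine isClosed_of_closure_subset fun y hy => ?_
  let C : X → IrreducibleCloseds X := fun z => ⟨closure {z}, isIrreducible_singleton.closure, isClosed_closure⟩
  have hle : C y ≤ C x := closure_minimal (Set.singleton_subset_iff.2 hy) isClosed_closure
  have he : C x ≤ C y := Order.krullDim_nonpos_iff_forall_isMax.1 h (C y) hle
  have hs : y ⤳ x := specializes_iff_mem_closure.2 (he (subset_closure (Set.mem_singleton x)))
  exact (hs.antisymm (specializes_iff_mem_closure.2 hy)).eq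

/-- An affine open of a scheme of dimension zero is totally separated. -/
theorem totallySeparatedSpace_affineOpen (h : topologicalKrullDim X ≤ 0) {W : X.Opens}
    (hW : IsAffineOpen W) : TotallySeparatedSpace W.toScheme := by
  haveI : IsAffine W.toScheme := hW
  let e := Scheme.homeoOfIso W.toScheme.isoSpec
  have hmax : ∀ p : PrimeSpectrum Γ(W.toScheme, ⊤), p.asIdeal.IsMaximal := fun p => by
    refine (PrimeSpectrum.isClosed_singleton_iff_isMaximal p).1 ?_
    have hc : IsClosed ({e.symm p} : Set W.toScheme) := by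
      have h1 := (isClosed_singleton_of_dim_le_zero h (W.ι (e.symm p))).preimage W.ι.continuous
      rwa [← Set.image_singleton, Set.preimage_image_eq _ W.ι.isOpenEmbedding.injective] at h1
    have h2 := e.isClosedMap _ hc
    rwa [Set.image_singleton, Homeomorph.apply_symm_apply] at h2
  haveI : TotallySeparatedSpace (Spec Γ(W.toScheme, ⊤)) := GrothLib.WLocal.totallySeparatedSpace hmax
  exact ⟨fun a _ b _ hab => by
    obtain ⟨U, hU, ha, hb⟩ := exists_isClopen_of_totally_separated (e.injective.ne hab)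
    exact ⟨e ⁻¹' U, (e ⁻¹' U)ᶜ, hU.2.preimage e.continuous, (hU.1.preimage e.continuous).isOpen_compl,
      ha, hb, by simp, disjoint_compl_right⟩⟩

/-- In a quasi-separated scheme of dimension zero, every quasi-compact open is affine. -/
theorem isAffineOpen_of_isCompact [QuasiSeparatedSpace X] (h : topologicalKrullDim X ≤ 0)
    (U : X.Opens) (hU : IsCompact (U : Set X)) : IsAffineOpen U := by
  refine compact_open_induction_on U hU (isAffineOpen_bot X) fun S hS W hP => ?_
  haveI := totallySeparatedSpace_affineOpen h W.2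
  haveI : IsAffine W.1.toScheme := W.2
  have hk : IsCompact ((S : Set X) ∩ (W.1 : Set X)) :=
    QuasiSeparatedSpace.inter_isCompact _ _ S.2 hS W.1.2 W.2.isCompact
  have hk' : IsClosed (W.1.ι ⁻¹' (S : Set X)) := by
    refine IsCompact.isClosed ?_
    rw [W.1.ι.isOpenEmbedding.isEmbedding.isCompact_iff, Set.image_preimage_eq_inter_range,
      Scheme.Opens.range_ι]
    exact hk
  let V : W.1.toScheme.Opens := ⟨(W.1.ι ⁻¹' (S : Set X))ᶜ, hk'.isOpen_compl⟩
  have hV : IsAffine V.toScheme := by
    haveI : IsClosedImmersion V.ι := IsClosedImmersion.of_isPreimmersion _ (by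
      rw [Scheme.Opens.range_ι]
      exact (S.2.preimage W.1.ι.continuous).isClosed_compl)
    exact isAffine_of_isAffineHom V.ι
  have hV' : IsAffineOpen (W.1.ι ''ᵁ V) := IsAffineOpen.image_of_isOpenImmersion hV W.1.ι
  have e : S ⊔ W.1 = S ⊔ (W.1.ι ''ᵁ V) := by
    refine Opens.ext ?_
    ext x
    simp only [Opens.coe_sup, Set.mem_union, SetLike.mem_coe]
    constructor
    · rintro (hx | hx)
      · exact Or.inl hx
      · by_cases hxS : x ∈ S
        · exact Or.inl hxS
        · exact Or.inr ⟨⟨x, hx⟩, hxS, rfl⟩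
    · rintro (hx | ⟨y, -, rfl⟩)
      · exact Or.inl hx
      · exact Or.inr y.2
  rw [e]
  refine hP.sup_of_disjoint hV' (disjoint_iff.2 (Opens.ext (Set.eq_empty_of_forall_notMem ?_)))
  rintro x ⟨hx, y, hy, rfl⟩
  exact hy hx

/-- A quasi-separated scheme of dimension zero is separated. -/
theorem isSeparated_of_dim_le_zero [QuasiSeparatedSpace X] (h : topologicalKrullDim X ≤ 0) :
    X.IsSeparated := by
  haveI : QuasiSeparated (terminal.from X) := quasiSeparatedSpace_iff_quasiSeparated _ |>.1 inferInstance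
  refine ⟨IsSeparated.of_valuativeCriterion _ fun S => ⟨fun l₁ l₂ => CommSq.LiftStruct.ext ?_⟩⟩
  let c := IsLocalRing.closedPoint S.R
  obtain ⟨_, ⟨U₁, hU₁, rfl⟩, h1, -⟩ := X.isBasis_affineOpens.exists_subset_of_mem_open (Set.mem_univ (l₁.l c)) isOpen_univ
  obtain ⟨_, ⟨U₂, hU₂, rfl⟩, h2, -⟩ := X.isBasis_affineOpens.exists_subset_of_mem_open (Set.mem_univ (l₂.l c)) isOpen_univ
  let W : X.Opens := U₁ ⊔ U₂
  have hW : IsAffineOpen W := isAffineOpen_of_isCompact h W (hU₁.isCompact.union hU₂.isCompact)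
  haveI : IsAffine W.toScheme := hW
  have hr : ∀ (l : Spec (CommRingCat.of S.R) ⟶ X), l c ∈ W → Set.range l ⊆ Set.range W.ι := by
    rintro l hl _ ⟨p, rfl⟩
    rw [Scheme.Opens.range_ι]
    exact ((IsLocalRing.specializes_closedPoint p).map l.continuous).mem_open W.2 hl
  let m₁ := IsOpenImmersion.lift W.ι l₁.l (hr _ (Or.inl h1))
  let m₂ := IsOpenImmersion.lift W.ι l₂.l (hr _ (Or.inr h2))
  let ι := Spec.map (CommRingCat.ofHom (algebraMap S.R S.K))
  haveI : IsDominant ι := ⟨PrimeSpectrum.denseRange_comap_iff_ker_le_nilRadical _ |>.2 (by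
    intro a ha
    have : a = 0 := (FaithfulSMul.algebraMap_injective S.R S.K) (by simpa using ha)
    simp [this])⟩
  have he : ι ≫ m₁ = ι ≫ m₂ := by
    rw [← cancel_mono W.ι]
    simp only [m₁, m₂, Category.assoc, IsOpenImmersion.lift_fac]
    exact l₁.fac_left.trans l₂.fac_left.symm
  have := ext_of_isDominant ι he
  rw [← IsOpenImmersion.lift_fac W.ι l₁.l (hr _ (Or.inl h1)),
    ← IsOpenImmersion.lift_fac W.ι l₂.l (hr _ (Or.inr h2))]
  exact congrArg (· ≫ W.ι) this

theorem t2Space_of_dim_le_zero [X.IsSeparated] (h : topologicalKrullDim X ≤ 0) :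
    T2Space X ∧ TotallyDisconnectedSpace X := by
  haveI : T2Space X := ⟨fun x y hxy => by
    obtain ⟨_, ⟨U₁, hU₁, rfl⟩, h1, -⟩ := X.isBasis_affineOpens.exists_subset_of_mem_open (Set.mem_univ x) isOpen_univ
    obtain ⟨_, ⟨U₂, hU₂, rfl⟩, h2, -⟩ := X.isBasis_affineOpens.exists_subset_of_mem_open (Set.mem_univ y) isOpen_univ
    let W : X.Opens := U₁ ⊔ U₂
    have hW : IsAffineOpen W := isAffineOpen_of_isCompact h W (hU₁.isCompact.union hU₂.isCompact)
    haveI := totallySeparatedSpace_affineOpen h hW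
    obtain ⟨A, B, hA, hB, ha, hb, hd⟩ := t2_separation (X := W.toScheme) (x := ⟨x, Or.inl h1⟩)
      (y := ⟨y, Or.inr h2⟩) (fun e => hxy (congrArg Subtype.val e))
    exact ⟨W.ι '' A, W.ι '' B, W.ι.isOpenEmbedding.isOpenMap _ hA, W.ι.isOpenEmbedding.isOpenMap _ hB,
      ⟨_, ha, rfl⟩, ⟨_, hb, rfl⟩, (Set.disjoint_image_iff W.ι.isOpenEmbedding.injective).2 hd⟩⟩
  haveI : TotallySeparatedSpace X := totallySeparatedSpace_iff_exists_isClopen.2 fun x y hxy => by
    obtain ⟨_, ⟨U, hU, rfl⟩, hx, hUy⟩ :=
      X.isBasis_affineOpens.exists_subset_of_mem_open (show x ∈ ({y} : Set X)ᶜ from hxy) isOpen_compl_singleton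
    exact ⟨U, ⟨hU.isCompact.isClosed, U.2⟩, hx, fun hy => hUy hy rfl⟩
  exact ⟨inferInstance, inferInstance⟩

end GrothLib.Props8
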